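import Cfsg.Agent.H788.QS.Sz
import Cfsg.Agent.H6.QO.Frame

/-!
# `RowA (Sz(8))` (helper788, S2491, S2492, row D4)
-/

set_option autoImplicit false

namespace Cfsg.Agent.H788.QS.Sz

open Subgroup Cfsg.Agent.H48 Cfsg.Agent.H48.Cores

/-- every element of every perfect central extension of `Sz(8)` is a commutator -/
theorem rowA {F : Type*} [Field F] [Fintype F] (hF : Fintype.card F = 8) :
    Cfsg.Agent.H6.QO.RowA ↥(Cfsg.Lie.Sz F (2 ^ (1 + 1))) := by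
  have hF' : Fintype.card F = 2 ^ (2 * 1 + 1) := hF
  obtain ⟨κ, hst, h⟩ := exists_ext' hF
  have hX : commutator ↥(Cfsg.Lie.Sz F (2 ^ (1 + 1))) = ⊤ := Cfsg.Agent.H67.SzOdd.perfect_sz (m := 1) le_rfl hF'
  have hK := Cfsg.Agent.H67.perf_of_stem hX hst
  have hA : Cfsg.HasSchurMultiplier ↥(Cfsg.Lie.Sz F (2 ^ (1 + 1))) (Multiplicative (ZMod 2 × ZMod 2)) :=
    Cfsg.Agent.S2112.result hF
  have : Finite (SzCoc.Ker F) := inferInstance
  refine Cfsg.Agent.H6.QO.RowA.of_univ hA (σ := Ext.π κ) ⟨hst.1, hst.2.1, hK⟩ ?_ h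
  rw [Nat.card_congr (Ext.kerEquiv κ).toEquiv]
  have h1 : Nat.card (Multiplicative (SzCoc.Ker F)) = 4 := S2112.card_ker hF
  rw [h1, Nat.card_eq_fintype_card]
  rfl

theorem rowA' {F : Type*} [Field F] [Fintype F] (hF : Fintype.card F = 8) :
    Cfsg.Agent.H6.QO.RowA ↥(Cfsg.Lie.Sz F 4) := rowA hF

end Cfsg.Agent.H788.QS.Sz
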