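import Cfsg.Agent.S2112
import Cfsg.Agent.H147.SzReal
import Cfsg.Agent.H538.Ore.Small
import Cfsg.Agent.H777.Ore.Base

/-!
# `2².Sz(8)`: every element is a commutator (helper788, S2491, S2492, row D4)

The cocycle of `H48/SzCoc.lean` restricted to the Sylow 2-subgroup is `q (b ^ 4 * c + a * c ^ 6 + a ^ 5 * c ^ 2)`; hence every
lift `x` of a nontrivial 2-element is conjugate to all the elements `x z`, `z` in the kernel.

* `exists_cover` : the extension, with `AllC`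
-/

set_option autoImplicit false

namespace Cfsg.Agent.H788.QS.Sz

open Subgroup
open Cfsg.Agent.H48 Cfsg.Agent.H48.Cores Cfsg.Agent.StdSz Cfsg.Agent.StdSz.BorelCoord
open Cfsg.Agent.H777.Ore (IsC AllC)

universe u v

/-! ### commutators in the extension of a cocycle -/

section ext

variable {G : Type u} {A : Type v} [Group G] [AddCommGroup A] {κ : Coc G A}

/-- all the lifts of `π s` are conjugate to `s` -/
def Fz (s : Ext κ) : Prop := ∀ α : Multiplicative A, ∃ u : Ext κ, u * s * u⁻¹ = Ext.ι κ α * s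

theorem ι_comm (α : Multiplicative A) (x : Ext κ) : Ext.ι κ α * x = x * Ext.ι κ α := Ext.ι_central κ α x

theorem Fz.conj {s : Ext κ} (h : Fz s) (x : Ext κ) : Fz (x * s * x⁻¹) := by
  intro α
  obtain ⟨u, hu⟩ := h α
  refine ⟨x * u * x⁻¹, ?_⟩
  calc x * u * x⁻¹ * (x * s * x⁻¹) * (x * u * x⁻¹)⁻¹ = x * (u * s * u⁻¹) * x⁻¹ := by group
    _ = x * (Ext.ι κ α * s) * x⁻¹ := by rw [hu]
    _ = (x * Ext.ι κ α) * s * x⁻¹ := by group
    _ = (Ext.ι κ α * x) * s * x⁻¹ := by rw [ι_comm]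
    _ = Ext.ι κ α * (x * s * x⁻¹) := by group

theorem conj_lift {x y : G} (h : x * y = y * x) (α : A) :
    (⟨y, 0⟩ : Ext κ) * ⟨x, α⟩ * (⟨y, 0⟩ : Ext κ)⁻¹ = Ext.ι κ (Multiplicative.ofAdd (κ.c y x - κ.c x y)) * ⟨x, α⟩ := by
  rw [mul_inv_eq_iff_eq_mul]
  ext
  · show y * x = 1 * x * y
    rw [one_mul, h]
  · show 0 + α + κ.c y x = (κ.c y x - κ.c x y) + α + κ.c 1 x + 0 + κ.c (1 * x) y
    rw [κ.left, one_mul]
    abel

theorem fz_of {x : G} (h : ∀ α : A, ∃ y, x * y = y * x ∧ κ.c y x - κ.c x y = α) (α : A) : Fz (⟨x, α⟩ : Ext κ) := by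
  intro β
  obtain ⟨y, h1, h2⟩ := h β.toAdd
  refine ⟨⟨y, 0⟩, ?_⟩
  rw [conj_lift h1, h2]
  rfl

/-- the lifts of a conjugate of `x` -/
theorem fz_of_isConj {x : G} (h : ∀ α : A, ∃ y, x * y = y * x ∧ κ.c y x - κ.c x y = α) {s : Ext κ}
    (hs : IsConj x s.g) : Fz s := by
  obtain ⟨c, hc⟩ := isConj_iff.1 hs
  obtain ⟨c', rfl⟩ := Ext.π_surj κ c
  have h1 : Fz (c'⁻¹ * s * c') := by
    have h2 : (c'⁻¹ * s * c').g = x := by
      show (Ext.π κ) (c'⁻¹ * s * c') = x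
      rw [map_mul, map_mul, map_inv, Ext.π_apply κ s, ← hc]
      group
    have h3 : c'⁻¹ * s * c' = ⟨x, (c'⁻¹ * s * c').a⟩ := Ext.ext h2 rfl
    rw [h3]
    exact fz_of h _
  have h2 := h1.conj c'
  rwa [show c' * (c'⁻¹ * s * c') * c'⁻¹ = s by group] at h2

theorem exists_ι {g h : Ext κ} (hgh : g.g = h.g) : ∃ α, g = Ext.ι κ α * h := by
  have h1 : g * h⁻¹ ∈ (Ext.π κ).ker := by
    rw [MonoidHom.mem_ker, map_mul, map_inv, Ext.π_apply, Ext.π_apply, hgh, mul_inv_cancel]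
  rw [Ext.ker_eq] at h1
  obtain ⟨α, hα⟩ := h1
  exact ⟨α, by rw [hα, inv_mul_cancel_right]⟩

/-- (C1) -/
theorem isC_of_fz {g : Ext κ} (hg : Fz g) (h : IsC g.g) : IsC g := by
  obtain ⟨a, b, hab⟩ := h
  obtain ⟨a, rfl⟩ := Ext.π_surj κ a
  obtain ⟨b, rfl⟩ := Ext.π_surj κ b
  have h1 : (a * b * a⁻¹ * b⁻¹).g = g.g := by
    rw [hab]
    show (Ext.π κ) (a * b * a⁻¹ * b⁻¹) = _
    rw [map_mul, map_mul, map_mul, map_inv, map_inv]
  obtain ⟨α, hα⟩ := exists_ι h1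
  obtain ⟨u, hu⟩ := hg α
  rw [← hu] at hα
  exact IsC.of_conj u ⟨a, b, hα.symm⟩

/-- (C2) -/
theorem isC_of_fst {g s t : Ext κ} (hs : Fz s) (h : g.g = s.g * t.g * s.g⁻¹ * t.g⁻¹) : IsC g := by
  have h1 : g.g = (s * t * s⁻¹ * t⁻¹).g := h
  obtain ⟨α, hα⟩ := exists_ι h1
  obtain ⟨u, hu⟩ := hs α⁻¹
  refine ⟨s, t * u, ?_⟩
  have h2 : u * s⁻¹ * u⁻¹ = s⁻¹ * Ext.ι κ α := by
    have h3 : u * s⁻¹ * u⁻¹ = (u * s * u⁻¹)⁻¹ := by group
    rw [h3, hu, mul_inv_rev, ← map_inv, inv_inv]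
  calc g = Ext.ι κ α * (s * t * s⁻¹ * t⁻¹) := hα
    _ = (Ext.ι κ α * (s * t * s⁻¹)) * t⁻¹ := by group
    _ = (s * t * s⁻¹ * Ext.ι κ α) * t⁻¹ := by rw [ι_comm]
    _ = s * t * (s⁻¹ * Ext.ι κ α) * t⁻¹ := by group
    _ = s * t * (u * s⁻¹ * u⁻¹) * t⁻¹ := by rw [h2]
    _ = s * (t * u) * s⁻¹ * (t * u)⁻¹ := by group

end ext

/-! ### the stem extension with its values on the Sylow 2-subgroup -/

section stem

variable {F : Type u} [Field F] [Fintype F] [CharP F 2] {S : Type u} [Group S] [Finite S]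

open SzCoc in
theorem exists_stem' (C : Data 1 F S)
    (hinj : ∀ a b c d (k l : Fˣ), C.p a b * C.h k = C.p c d * C.h l → a = c ∧ b = d ∧ k = l)
    (hF : Fintype.card F = 8) (B P : Subgroup S) (w : S) (hB : ∀ g, g ∈ B ↔ ∃ x, g = bel C x)
    (hP : ∀ g, g ∈ P ↔ ∃ a b, g = C.p a b)
    (h1 : ∀ g, g ∉ B → ∃ s ∈ P, (s * w)⁻¹ * g ∈ B) (h2 : ∀ s ∈ P, w⁻¹ * s * w ∈ B → s = 1) :
    ∃ κ : Cores.Coc S (Ker F), Cfsg.IsStemExtension (Cores.Ext.π κ) ∧
      ∀ a b c d, κ.c (C.p a b) (C.p c d) = q F (f a b c) := by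
  have hPB : P ≤ B := by
    intro g hg
    obtain ⟨a, b, rfl⟩ := (hP g).1 hg
    exact (hB _).2 ⟨_, p_eq C hinj a b⟩
  obtain ⟨κ, hκ⟩ := Cores.exists_coc B P w hPB h1 h2 (coc C)
    (by
      intro x hx y hy z hz
      obtain ⟨x, rfl⟩ := (hB _).1 hx
      obtain ⟨y, rfl⟩ := (hB _).1 hy
      obtain ⟨z, rfl⟩ := (hB _).1 hz
      exact coc_assoc C hinj hF x y z)
    (by
      intro x hx
      obtain ⟨x, rfl⟩ := (hB _).1 hx
      exact coc_left C hinj x)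
    (by
      intro x hx
      obtain ⟨x, rfl⟩ := (hB _).1 hx
      exact coc_right C hinj x)
  have key : ∀ a b c d, κ.c (C.p a b) (C.p c d) = q F (f a b c) := by
    intro a b c d
    rw [hκ _ ((hP _).2 ⟨_, _, rfl⟩) _ ((hP _).2 ⟨_, _, rfl⟩), p_eq C hinj, p_eq C hinj, coc_bel C hinj]
    simp
  refine ⟨κ, Cores.stem_of_coc κ ?_, key⟩
  intro a
  obtain ⟨y, rfl⟩ := q_surj a
  refine ⟨C.p 0 1, C.p y 0, (C.comm_zero y 0 1).symm, ?_⟩
  rw [key, key]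
  unfold f
  simp

end stem

/-! ### the group -/

section main

variable {F : Type u} [Field F] [Fintype F]

open SzCoc in
theorem full_p [CharP F 2] {S : Type v} [Group S] {C : Data 1 F S} {κ : Cores.Coc S (Ker F)} (hF : Fintype.card F = 8)
    (hκ : ∀ a b c d, κ.c (C.p a b) (C.p c d) = q F (f a b c)) {a b : F} (h : a ≠ 0 ∨ b ≠ 0) (α : Ker F) :
    ∃ y, C.p a b * y = y * C.p a b ∧ κ.c y (C.p a b) - κ.c (C.p a b) y = α := by
  obtain ⟨β, rfl⟩ := q_surj α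
  by_cases ha : a = 0
  · subst ha
    have hb : b ≠ 0 := by
      rcases h with h | h
      · exact absurd rfl h
      · exact h
    refine ⟨C.p (-(β / b ^ 4)) 0, (C.comm_zero _ 0 b).symm, ?_⟩
    rw [hκ, hκ, ← map_sub]
    congr 1
    unfold f
    field_simp
    ring
  · refine ⟨C.p 0 ((β / a) ^ 2), C.comm_zero a b _, ?_⟩
    rw [hκ, hκ, ← map_sub]
    congr 1
    have h8 := pow8 hF (β / a)
    have h1 : ((β / a) ^ 2) ^ 4 = β / a := by rw [← pow_mul]; exact h8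
    unfold f
    rw [h1]
    field_simp
    ring

open Cfsg.Agent.LieRecognition.SzMatrix in
theorem exists_ext' (hF : Fintype.card F = 8) :
    ∃ κ : Cores.Coc ↥(Cfsg.Lie.Sz F (2 ^ (1 + 1))) (SzCoc.Ker F), Cfsg.IsStemExtension (Cores.Ext.π κ) ∧
      AllC (Ext κ) := by
  have hF' : Fintype.card F = 2 ^ (2 * 1 + 1) := hF
  have := charP_two hF'
  have H := good hF'
  let C : Data 1 F ↥(Cfsg.Lie.Sz F (2 ^ (1 + 1))) := szData hF'
  have hp : ∀ a b, C.p a b = H.u a (b + a * theta hF' a) := fun a b => rfl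
  have hh : ∀ l, C.h l = H.d (l ^ 3) := fun l => rfl
  have h7 : ∀ l : Fˣ, l ^ 7 = 1 := fun l => Units.ext (by
    rw [Units.val_pow_eq_pow_val]
    exact SzCoc.pow7 hF l)
  have hu : ∀ a b, H.u a b = C.p a (b + a * theta hF' a) := by
    intro a b
    rw [hp, add_assoc, CharTwo.add_self_eq_zero (a * theta hF' a), add_zero]
  have hd : ∀ k : Fˣ, H.d k = C.h (k ^ 5) := by
    intro k
    rw [hh, ← pow_mul]
    have : k ^ (5 * 3) = (k ^ 7) ^ 2 * k := by rw [← pow_mul, ← pow_succ]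
    rw [this, h7, one_pow, one_mul]
  obtain ⟨κ, hst, hκ⟩ := exists_stem' C (by
    intro a b c d k l h
    rw [hp, hp, hh, hh] at h
    obtain ⟨h1, h2, h3⟩ := H.u_mul_d_inj h
    subst h1
    refine ⟨rfl, add_right_cancel h2, ?_⟩
    have h4 : (k ^ 3) ^ 5 = (l ^ 3) ^ 5 := by rw [h3]
    have h5 : ∀ x : Fˣ, (x ^ 3) ^ 5 = x := by
      intro x
      have : (x ^ 3) ^ 5 = (x ^ 7) ^ 2 * x := by rw [← pow_mul, ← pow_mul, ← pow_succ]
      rw [this, h7, one_pow, one_mul]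
    rwa [h5, h5] at h4) hF H.borel H.unip H.w (by
    intro g
    rw [H.mem_borel_iff']
    constructor
    · rintro ⟨a, b, k, rfl⟩
      exact ⟨(a, b + a * theta hF' a, k ^ 5), by rw [hu, hd]; rfl⟩
    · rintro ⟨⟨a, b, k⟩, rfl⟩
      exact ⟨a, b + a * theta hF' a, k ^ 3, rfl⟩) (by
    intro g
    rw [H.mem_unip_iff]
    constructor
    · rintro ⟨a, b, rfl⟩
      exact ⟨a, _, hu a b⟩
    · rintro ⟨a, b, rfl⟩
      exact ⟨a, _, hp a b⟩) H.bruhat_sz H.inter_trivial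
  refine ⟨κ, hst, ?_⟩
  have hfull : ∀ a b, a ≠ 0 ∨ b ≠ 0 → ∀ s : Ext κ, IsConj (H.u a b) s.g → Fz s := by
    intro a b hab s hs
    rw [hu] at hs
    refine fz_of_isConj (full_p hF hκ ?_) hs
    by_cases ha : a = 0
    · right
      rcases hab with h | h
      · exact absurd ha h
      · rwa [ha, zero_mul, add_zero]
    · exact Or.inl ha
  have hinv : ∀ s : Ext κ, s.g ≠ 1 → s.g * s.g = 1 → Fz s := fun s h1 h2 =>
    hfull 0 1 (Or.inr one_ne_zero) s (H147.Sz.isConj_invol H h1 h2).symm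
  have hall : AllC ↥(Cfsg.Lie.Sz F (2 ^ (1 + 1))) := (H538.Ore.th_sz 1 le_rfl hF').allC
  have hi1 : H.u 0 1 ≠ 1 := fun h => one_ne_zero ((H147.Sz.u_eq_one_iff H).1 h).2
  have hi2 : H.u 0 1 * H.u 0 1 = 1 := by rw [H147.Sz.u_sq, zero_mul, H.u_zero]
  intro g
  by_cases hg1 : g.g = 1
  · exact isC_of_fst (s := ⟨H.u 0 1, 0⟩) (t := 1) (hinv _ hi1 hi2) (by
      rw [hg1]
      show 1 = H.u 0 1 * 1 * (H.u 0 1)⁻¹ * (1 : ↥(Cfsg.Lie.Sz F (2 ^ (1 + 1))))⁻¹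
      group)
  rcases H147.Sz.real le_rfl hF' g.g hg1 with ⟨h1, i, h2, h3, h4⟩ | ⟨a, b, h⟩
  · -- `g` is a product of two involutions
    have h5 : (i * g.g) * (i * g.g) = 1 := by
      calc (i * g.g) * (i * g.g) = (i * g.g * i) * g.g := by group
        _ = 1 := by rw [h4, inv_mul_cancel]
    have h6 : i * g.g ≠ 1 := by
      intro h
      apply h1
      have h7 : g.g = i⁻¹ := (inv_eq_of_mul_eq_one_right h).symm
      rw [h7, ← mul_inv_rev, h3, inv_one]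
    have h7 := (H147.Sz.isConj_invol H h2 h3).trans (H147.Sz.isConj_invol H h6 h5).symm
    obtain ⟨t, ht⟩ := isConj_iff.1 h7
    refine isC_of_fst (s := ⟨i, 0⟩) (t := ⟨t, 0⟩) (hinv _ h2 h3) ?_
    show g.g = i * t * i⁻¹ * t⁻¹
    have h8 : i⁻¹ = i := inv_eq_of_mul_eq_one_left h3
    calc g.g = (i * i) * g.g := by rw [h3, one_mul]
      _ = i * (i * g.g) := mul_assoc _ _ _
      _ = i * (t * i * t⁻¹) := by rw [ht]
      _ = i * t * i⁻¹ * t⁻¹ := by rw [h8]; group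
  · refine isC_of_fz (hfull a b ?_ g h.symm) (hall _)
    by_contra hne
    push Not at hne
    rw [hne.1, hne.2, H.u_zero] at h
    exact hg1 (isConj_one_left.1 h)

end main

end Cfsg.Agent.H788.QS.Sz
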